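import Cfsg.Agent.H864.RC.T3
import Cfsg.Agent.H198.TwComp
import Cfsg.Agent.H198.TriTC

/-!
# S3510, triality part of `PΩ₈⁺(q)`, type iii (helper864): the definitions of the boxes

The statements of the boxes are in `tools/plans/S3510_tri3_stubs.lean.txt`.
-/

set_option autoImplicit false
open Cfsg

namespace Cfsg.Agent.H864.RC

open Module QuadraticMap MulAction
open Cfsg.Agent.LieClassical.OrthCore Cfsg.Agent.LieClassical.OrthTrans
open Cfsg.Agent.LieClassical.OrthSimple Cfsg.Agent.ClassicalGeometry.OrthSemi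
open Cfsg.Agent.ClassicalGeometry.OrthAut1 Cfsg.Agent.H106.RC Cfsg.Agent.H93.RC Cfsg.Agent.H566.RC
open Cfsg.Agent.LieClassical.QuadForms Cfsg.Agent.ClassicalGeometry.TrialityOct
open Cfsg.Agent.ClassicalGeometry.Triality Cfsg.Agent.ClassicalGeometry.TrialitySpaces
open Cfsg.Agent.H198.TriBase Cfsg.Agent.H198.TriAut Cfsg.Agent.H206.Balance Cfsg.Agent.H198.TriDia
open Cfsg.Agent.H198.TwComp Cfsg.Agent.H198

variable {F : Type} [Field F]

/-- eigenspaces -/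
abbrev Eg (c : V8 F ≃ₗ[F] V8 F) (z : F) : Submodule F (V8 F) :=
  Module.End.eigenspace (c : V8 F →ₗ[F] V8 F) z

/-- `[C, x]` -/
def comC {G : Type} [Group G] (C : Subgroup G) (x : G) : Subgroup G :=
  Subgroup.closure {z | ∃ c ∈ C, z = c * x * c⁻¹ * x⁻¹}

/-- centraliser in `N` of all `x i` -/
def CN {G ι : Type} [Group G] (N : Subgroup G) (x : ι → G) : Subgroup G :=
  N ⊓ Subgroup.centralizer (Set.range x)

/-- (G1) two dual totally singular planes -/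
structure G1 {ι : Type} (g : ι → (V8 F ≃ₗ[F] V8 F)) (L L' : Submodule F (V8 F)) : Prop where
  two : finrank F L = 2
  two' : finrank F L' = 2
  sing : ∀ v ∈ L, plusForm 4 F v = 0
  sing' : ∀ v ∈ L', plusForm 4 F v = 0
  dual : ∀ v ∈ L, (∀ w ∈ L', polar (plusForm 4 F) v w = 0) → v = 0
  inv : ∀ i, ∀ v ∈ L, g i v ∈ L
  inv' : ∀ i, ∀ v ∈ L', g i v ∈ L'
  /-- every element of `E Q` of odd prime order `≠ char` commuting with the `g i` preserves `L` -/
  pres : ∀ c ∈ E (plusForm 4 F), (∀ i, c * g i = g i * c) → ∀ l : ℕ, l.Prime → l ≠ 2 → (l : F) ≠ 0 → c ^ l = 1 →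
    ∀ v ∈ L, c v ∈ L

/-- (G2) elements of `E Q` of all odd orders `l ∣ n` (`l ≠ 3`) commuting with the `g i`,
`n = q² + q + 1, q² - q + 1, q² + 1` -/
def G2 {ι : Type} (g : ι → (V8 F ≃ₗ[F] V8 F)) : Prop :=
  ∃ n : ℕ, (n = Nat.card F ^ 2 + Nat.card F + 1 ∨ n = Nat.card F ^ 2 - Nat.card F + 1 ∨ n = Nat.card F ^ 2 + 1) ∧
    ∀ l : ℕ, l.Prime → l ≠ 2 → l ≠ 3 → l ∣ n →
      ∃ c ∈ E (plusForm 4 F), c ^ l = 1 ∧ c ≠ 1 ∧ ∀ i, c * g i = g i * c

/-- (G3) four orthogonal anisotropic planes -/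
structure G3 {ι : Type} (g : ι → (V8 F ≃ₗ[F] V8 F)) (P : Fin 4 → Submodule F (V8 F)) : Prop where
  two : ∀ k, finrank F (P k) = 2
  perp : ∀ k l, k ≠ l → ∀ v ∈ P k, ∀ w ∈ P l, polar (plusForm 4 F) v w = 0
  aniso : ∀ k, ∀ v ∈ P k, plusForm 4 F v = 0 → v = 0
  inv : ∀ k i, ∀ v ∈ P k, g i v ∈ P k
  /-- every `l`-element of `E Q`, `l` odd, `l ≠ char`, commuting with the `g i` preserves the `P k` -/
  pres : ∀ c ∈ E (plusForm 4 F), (∀ i, c * g i = g i * c) → ∀ l k : ℕ, l.Prime → l ≠ 2 → (l : F) ≠ 0 →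
    c ^ (l ^ k) = 1 → ∀ j, ∀ v ∈ P j, c v ∈ P j

/-- no `PF` cover by elements of the kernel of the action on the three families (semisimilitudes in `T1`) -/
def NoK (Ω : Type) {G : Type} [Group G] [MulAction G Ω] (κ : P8 F →* G) : Prop :=
  ∀ (γ : Type) [Finite γ] (y : γ → G) (t : γ → ℕ), PF y t → Cov Ω y →
    (∀ i, ∃ M ∈ T1 F, Lf (up κ) (y i) M) → False

end Cfsg.Agent.H864.RC
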