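import Cfsg.Agent.H864.RC.Def3

/-!
# S3510, triality type iii, box G: definitions (helper864)

Statements: `tools/plans/S3510_G_stubs.lean.txt`.
-/

set_option autoImplicit false
open Cfsg

namespace Cfsg.Agent.H864.RC

open Module QuadraticMap MulAction
open Cfsg.Agent.LieClassical.OrthCore Cfsg.Agent.LieClassical.OrthTrans
open Cfsg.Agent.LieClassical.OrthSimple Cfsg.Agent.ClassicalGeometry.OrthSemi
open Cfsg.Agent.ClassicalGeometry.OrthAut1 Cfsg.Agent.H106.RC Cfsg.Agent.H93.RC Cfsg.Agent.H566.RC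
open Cfsg.Agent.LieClassical.QuadForms Cfsg.Agent.ClassicalGeometry.TrialityOct
open Cfsg.Agent.ClassicalGeometry.Triality Cfsg.Agent.ClassicalGeometry.TrialitySpaces
open Cfsg.Agent.H198.TriBase Cfsg.Agent.H198.TriAut Cfsg.Agent.H206.Balance Cfsg.Agent.H198.TriDia
open Cfsg.Agent.H198.TwComp Cfsg.Agent.H198

variable {F : Type} [Field F]

/-- components of two commuting isometries -/
def Vt (s1 s2 : V8 F ≃ₗ[F] V8 F) (t : F × F) : Submodule F (V8 F) :=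
  Module.End.eigenspace ((s1 : V8 F →ₗ[F] V8 F) + ((s1⁻¹ : V8 F ≃ₗ[F] V8 F) : V8 F →ₗ[F] V8 F)) t.1 ⊓
    Module.End.eigenspace ((s2 : V8 F →ₗ[F] V8 F) + ((s2⁻¹ : V8 F ≃ₗ[F] V8 F) : V8 F →ₗ[F] V8 F)) t.2

/-- the environment of (Gb): `s1` has its eigenvalues in `F`, `s2` norm one eigenvalues in the quadratic extension,
no element of order `p` of `E Q` commutes with both -/
structure GB (p : ℕ) (s1 s2 : V8 F ≃ₗ[F] V8 F) : Prop where
  m1 : s1 ∈ E (plusForm 4 F)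
  m2 : s2 ∈ E (plusForm 4 F)
  comm : s1 * s2 = s2 * s1
  odd1 : ∃ n, Odd n ∧ s1 ^ n = 1
  odd2 : ∃ n, Odd n ∧ s2 ^ n = 1
  q1 : s1 ^ (Nat.card F - 1) = 1
  q2 : s2 ^ (Nat.card F + 1) = 1
  hC : ∀ c ∈ E (plusForm 4 F), c * s1 = s1 * c → c * s2 = s2 * c → c ^ p = 1 → c = 1

end Cfsg.Agent.H864.RC
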