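import Cfsg.Agent.H864.RC.DefG
import Cfsg.Agent.H675.RC.DetFam

/-!
# S3510, triality type iii, box G: generators (helper864)
-/

set_option autoImplicit false
open Cfsg

namespace Cfsg.Agent.H864.RC

open Module QuadraticMap MulAction
open Cfsg.Agent.LieClassical.OrthCore Cfsg.Agent.LieClassical.OrthTrans
open Cfsg.Agent.LieClassical.OrthSimple Cfsg.Agent.ClassicalGeometry.OrthSemi
open Cfsg.Agent.ClassicalGeometry.OrthAut1 Cfsg.Agent.H106.RC Cfsg.Agent.H93.RC Cfsg.Agent.H566.RC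
open Cfsg.Agent.LieClassical.QuadForms Cfsg.Agent.ClassicalGeometry.TrialityOct
open Cfsg.Agent.ClassicalGeometry.Triality Cfsg.Agent.ClassicalGeometry.TrialitySpaces
open Cfsg.Agent.H198.TriBase Cfsg.Agent.H198.TriAut Cfsg.Agent.H206.Balance Cfsg.Agent.H198.TriDia
open Cfsg.Agent.H198.TwComp Cfsg.Agent.H198

/-- (P5) generators -/
theorem exists_s12 {F : Type} [Field F] [Finite F] {ι : Type} [Finite ι] {g : ι → (V8 F ≃ₗ[F] V8 F)} {r : ι → ℕ}
    (hr : ∀ i, (r i).Prime)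
    (hinj : Function.Injective r) (hr2 : ∀ i, r i ≠ 2) (hpow : ∀ i, g i ^ r i = 1) (hc : ∀ i j, g i * g j = g j * g i)
    (hq : ∀ i, r i ∣ Nat.card F ^ 2 - 1) :
    ∃ s1 ∈ Subgroup.closure (Set.range g), ∃ s2 ∈ Subgroup.closure (Set.range g), s1 ^ (Nat.card F - 1) = 1 ∧
      s2 ^ (Nat.card F + 1) = 1 ∧ (∃ n, Odd n ∧ s1 ^ n = 1) ∧ (∃ n, Odd n ∧ s2 ^ n = 1) ∧
      ∀ i, g i ∈ Subgroup.closure ({s1, s2} : Set (V8 F ≃ₗ[F] V8 F)) := by
  classical
  have := Fintype.ofFinite ι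
  let A1 : Finset ι := Finset.univ.filter fun i => r i ∣ Nat.card F - 1
  let A2 : Finset ι := Finset.univ.filter fun i => ¬ r i ∣ Nat.card F - 1
  obtain ⟨s1, hs1, h1, e1⟩ := H675.RC.exists_gen g r hr hinj hpow hc A1
  obtain ⟨s2, hs2, h2, e2⟩ := H675.RC.exists_gen g r hr hinj hpow hc A2
  have hodd : ∀ A : Finset ι, Odd (∏ j ∈ A, r j) := fun A =>
    Finset.prod_induction _ Odd (fun _ _ => Odd.mul) odd_one fun j _ => (hr j).odd_of_ne_two (hr2 j)
  have hdvd : ∀ (A : Finset ι) (m : ℕ), (∀ j ∈ A, r j ∣ m) → ∏ j ∈ A, r j ∣ m := by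
    intro A m hA
    refine Finset.prod_dvd_of_isRelPrime ?_ hA
    intro i _ j _ hij
    exact Nat.coprime_iff_isRelPrime.1 ((Nat.coprime_primes (hr i) (hr j)).2 fun h => hij (hinj h))
  refine ⟨s1, Subgroup.closure_mono (Set.image_subset_range _ _) hs1, s2,
    Subgroup.closure_mono (Set.image_subset_range _ _) hs2, ?_, ?_, ⟨_, hodd A1, e1⟩, ⟨_, hodd A2, e2⟩, ?_⟩
  · obtain ⟨k, hk⟩ := hdvd A1 (Nat.card F - 1) fun j hj => (Finset.mem_filter.1 hj).2
    rw [hk, pow_mul, e1, one_pow]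
  · obtain ⟨k, hk⟩ := hdvd A2 (Nat.card F + 1) fun j hj => by
      have h3 := hq j
      have h4 : Nat.card F ^ 2 - 1 = (Nat.card F + 1) * (Nat.card F - 1) := by
        have := Nat.sq_sub_sq (Nat.card F) 1
        rwa [one_pow] at this
      rw [h4] at h3
      exact ((hr j).dvd_mul.1 h3).resolve_right (Finset.mem_filter.1 hj).2
    rw [hk, pow_mul, e2, one_pow]
  · intro i
    by_cases hi : r i ∣ Nat.card F - 1
    · obtain ⟨k, hk⟩ := h1 i (Finset.mem_filter.2 ⟨Finset.mem_univ _, hi⟩)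
      rw [← hk]
      exact Subgroup.zpow_mem _ (Subgroup.subset_closure (by simp)) k
    · obtain ⟨k, hk⟩ := h2 i (Finset.mem_filter.2 ⟨Finset.mem_univ _, hi⟩)
      rw [← hk]
      exact Subgroup.zpow_mem _ (Subgroup.subset_closure (by simp)) k

end Cfsg.Agent.H864.RC
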